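import Groth.Agent.CurveBir.Basic
import Groth.Agent.FrobDeg.Field
import Groth.Agent.SmoothCompl.Basic
import Groth.Agent.CurveFF.FunctionField
import Groth.Agent.EtaPt.UnivHomeo
import Groth.Agent.S1544
import Groth.Agent.Rigid.Smooth

/-!
A purely inseparable map of normal proper curves out of a smooth one is a relative Frobenius.
-/

set_option autoImplicit false
set_option linter.style.haveILetI false
set_option backward.isDefEq.respectTransparency false
universe u

open CategoryTheory CategoryTheory.Limits AlgebraicGeometry

namespace Groth.Agent.CurveFrob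

variable (k : Type u) [Field k]

theorem functionField_facts (X : Scheme.{u}) [X.Over (Spec (CommRingCat.of k))]
    [LocallyOfFiniteType (X ↘ Spec (CommRingCat.of k))] [IsIntegral X] (hdim : topologicalKrullDim X = 1) :
    letI : Algebra k X.functionField := (Curv2.stalkMap k X (genericPoint X)).toAlgebra
    Algebra.EssFiniteType k X.functionField ∧ Algebra.trdeg k X.functionField = 1 := by
  letI : Algebra k X.functionField := (Curv2.stalkMap k X (genericPoint X)).toAlgebra
  let f := X ↘ Spec (CommRingCat.of k)
  letI := (WeilLib.kStr f (genericPoint X)).toAlgebra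
  let e : X.functionField ≃ₐ[k] X.residueField (genericPoint X) :=
    AlgEquiv.ofRingEquiv (f := RingEquiv.ofBijective
      (X.residue (genericPoint X)).hom
      ⟨(X.residue (genericPoint X)).hom.injective, IsLocalRing.residue_surjective⟩) fun c => by
        simp [RingHom.algebraMap_toAlgebra, CurveFF.kStr_eq, CurveFF.stStr, WeilLib.secStr, Curv2.stalkMap,
          Coh.toGlobal, Scheme.Hom.appTop, Scheme.Hom.appLE, f]
        rfl
  refine ⟨(Algebra.EssFiniteType.iff_of_algEquiv e).2 (WeilLib.essFiniteType_residueField f _), ?_⟩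
  have h := (WeilLib.exists_pdim_eq_trd f (genericPoint X)).1
  rw [show WeilCoh.pdim X (genericPoint X) = 1 by
    rw [WeilCoh.pdim, genericPoint_closure, BMCoh.natDim_eq_of_homeomorph (Homeomorph.Set.univ _),
      WeilCoh.natDim, hdim]
    rfl, Nat.cast_one] at h
  exact e.trdeg_eq.trans h

variable (p : ℕ) [Fact p.Prime] [CharP k p]

theorem frob_univ (r : ℕ) :
    UniversallyInjective (Spec.map (CommRingCat.ofHom (iterateFrobenius k p r))) ∧
      IsIntegralHom (Spec.map (CommRingCat.ofHom (iterateFrobenius k p r))) ∧
        Surjective (Spec.map (CommRingCat.ofHom (iterateFrobenius k p r))) := by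
  refine ⟨((tfae_universallyInjective _).out 1 0 :
      (∀ (K : Type u) [Field K], Function.Injective (fun t : Spec (CommRingCat.of K) ⟶ Spec (CommRingCat.of k) =>
        t ≫ Spec.map (CommRingCat.ofHom (iterateFrobenius k p r)))) ↔ UniversallyInjective _).1 fun K _ a b h => ?_,
    IsIntegralHom.SpecMap_iff.2 ?_, ⟨fun y => ⟨IsLocalRing.closedPoint k, Subsingleton.elim (α := PrimeSpectrum k) _ _⟩⟩⟩
  · obtain ⟨α, rfl⟩ := Spec.map_surjective a
    obtain ⟨β, rfl⟩ := Spec.map_surjective b
    simp only [← Spec.map_comp] at h
    have h' := Spec.map_injective h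
    congr 1
    ext x
    haveI : CharP K p := charP_of_injective_ringHom (α.hom.injective) p
    have hx := congr($h' x)
    simp only [CommRingCat.hom_comp, CommRingCat.hom_ofHom, RingHom.comp_apply, iterateFrobenius_def, map_pow] at hx
    exact iterateFrobenius_inj K p r (by simpa [iterateFrobenius_def] using hx)
  · intro x
    exact ⟨Polynomial.X ^ p ^ r - Polynomial.C x, Polynomial.monic_X_pow_sub_C _ (pow_ne_zero _ (Fact.out : p.Prime).ne_zero),
      by simp [iterateFrobenius_def]⟩

variable (X Y : Scheme.{u}) [X.Over (Spec (CommRingCat.of k))] [Y.Over (Spec (CommRingCat.of k))]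
  [IsIntegral X] [IsIntegral Y] [IsProper (X ↘ Spec (CommRingCat.of k))] [IsProper (Y ↘ Spec (CommRingCat.of k))]
  [Smooth (X ↘ Spec (CommRingCat.of k))]

theorem exists_iso (hdX : topologicalKrullDim X = 1) (hdY : topologicalKrullDim Y = 1) (hnY : Pi1.IsNormalScheme Y)
    (f : X ⟶ Y) [IsFinite f] (hf : f ≫ (Y ↘ Spec (CommRingCat.of k)) = X ↘ Spec (CommRingCat.of k))
    (e : f (genericPoint X) = genericPoint Y)
    (hpi : letI := ((Y.presheaf.stalkSpecializes (specializes_of_eq e) ≫ f.stalkMap (genericPoint X)).hom).toAlgebra
      IsPurelyInseparable Y.functionField X.functionField) :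
    ∃ (r : ℕ) (i : Y ≅ pullback (X ↘ Spec (CommRingCat.of k)) (Spec.map (CommRingCat.ofHom (iterateFrobenius k p r)))),
      i.hom ≫ pullback.snd (X ↘ Spec (CommRingCat.of k)) (Spec.map (CommRingCat.ofHom (iterateFrobenius k p r))) =
        Y ↘ Spec (CommRingCat.of k) := by
  let S := Spec (CommRingCat.of k)
  letI aX : Algebra k X.functionField := (Curv2.stalkMap k X (genericPoint X)).toAlgebra
  letI aY : Algebra k Y.functionField := (Curv2.stalkMap k Y (genericPoint Y)).toAlgebra
  let ψ : Y.functionField →+* X.functionField :=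
    (Y.presheaf.stalkSpecializes (specializes_of_eq e) ≫ f.stalkMap (genericPoint X)).hom
  letI aψ : Algebra Y.functionField X.functionField := ψ.toAlgebra
  haveI : IsPurelyInseparable Y.functionField X.functionField := hpi
  have hgen := CurveBir.genHom_eq_of_stalkMap X Y f e
  have hψk : ψ.comp (Curv2.stalkMap k Y (genericPoint Y)) = Curv2.stalkMap k X (genericPoint X) := by
    have h1 : Spec.map (CommRingCat.ofHom (ψ.comp (Curv2.stalkMap k Y (genericPoint Y)))) =
        Spec.map (CommRingCat.ofHom (Curv2.stalkMap k X (genericPoint X))) := by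
      rw [← CurveBir.fromSpecStalk_over, CommRingCat.ofHom_comp, Spec.map_comp, ← CurveBir.fromSpecStalk_over, ← hf,
        ← Category.assoc, ← Category.assoc, ← hgen]
      rfl
    exact congrArg CommRingCat.Hom.hom (Spec.map_injective h1)
  haveI : IsScalarTower k Y.functionField X.functionField := IsScalarTower.of_algebraMap_eq' hψk.symm
  obtain ⟨hess, htr⟩ := functionField_facts k X hdX
  haveI := hess
  haveI : CharP X.functionField p := charP_of_injective_ringHom (algebraMap k X.functionField).injective p
  haveI : CharP Y.functionField p := charP_of_injective_ringHom (algebraMap k Y.functionField).injective p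
  haveI : ExpChar Y.functionField p := .prime Fact.out
  haveI : GeometricallyReduced (X ↘ S) := Rigid.geometricallyReduced_of_smooth _
  haveI : Algebra.IsGeometricallyReduced k X.functionField := (S1544.result k X).1 inferInstance
  haveI : Algebra.EssFiniteType Y.functionField X.functionField := Algebra.EssFiniteType.of_comp k _ _
  haveI : Algebra.IsAlgebraic Y.functionField X.functionField := IsPurelyInseparable.isIntegral.isAlgebraic
  haveI : FiniteDimensional Y.functionField X.functionField := Algebra.finite_of_essFiniteType_of_isAlgebraic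
  obtain ⟨r, hr⟩ := IsPurelyInseparable.finrank_eq_pow X.functionField p (F := Y.functionField)
  obtain ⟨hinjΦ, hintΦ, hsurjΦ⟩ := frob_univ k p r
  let Φ : Spec (CommRingCat.of k) ⟶ Spec (CommRingCat.of k) := Spec.map (CommRingCat.ofHom (iterateFrobenius k p r))
  let X' := pullback (X ↘ S) Φ
  let q' : X' ⟶ S := pullback.snd (X ↘ S) Φ
  let fst : X' ⟶ X := pullback.fst (X ↘ S) Φ
  letI : X'.Over S := ⟨q'⟩
  haveI : Smooth q' := inferInstanceAs (Smooth (pullback.snd (X ↘ S) Φ))
  haveI : IsProper q' := inferInstanceAs (IsProper (pullback.snd (X ↘ S) Φ))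
  haveI : IsProper (X' ↘ S) := ‹IsProper q'›
  haveI : UniversallyInjective fst := MorphismProperty.pullback_fst _ _ hinjΦ
  haveI : IsIntegralHom fst := MorphismProperty.pullback_fst _ _ hintΦ
  haveI : Surjective fst := MorphismProperty.pullback_fst _ _ hsurjΦ
  have hhomeo : IsHomeomorph fst :=
    (isHomeomorph_iff_continuous_isClosedMap_bijective).2 ⟨fst.continuous, fst.isClosedMap, fst.injective, fst.surjective⟩
  have hreg : ∀ x : X', IsRegularLocalRing (X'.presheaf.stalk x) := fun x =>
    SmLocalST.isRegularLocalRing_stalk_of_smooth_field q' x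
  haveI : IrreducibleSpace X' := by
    have h := (IrreducibleSpace.isIrreducible_univ (X : Type u)).image hhomeo.homeomorph.symm
      hhomeo.homeomorph.symm.continuous.continuousOn
    rw [Set.image_univ, hhomeo.homeomorph.symm.surjective.range_eq] at h
    exact (irreducibleSpace_def _).2 h
  haveI : IsReduced X' := by
    haveI : ∀ x : X', _root_.IsReduced (X'.presheaf.stalk x) := fun x => by
      haveI := hreg x
      haveI := RegLoc.isDomain (A := X'.presheaf.stalk x)
      infer_instance
    exact isReduced_of_isReduced_stalk X'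
  haveI : IsIntegral X' := isIntegral_of_irreducibleSpace_of_isReduced X'
  have hnX' : Pi1.IsNormalScheme X' := fun x => by
    haveI := hreg x
    exact ⟨RegLoc.isDomain (A := X'.presheaf.stalk x), RegLoc.isIntegrallyClosed⟩
  have hdX' : topologicalKrullDim X' = 1 := (hhomeo.topologicalKrullDim_eq _).trans hdX
  -- powers land in the function field of `Y`
  have hpow : ∀ z : X.functionField, z ^ p ^ r ∈ Set.range ψ :=
    fun z => FrobDeg.pow_finrank_mem Y.functionField p r hr z
  choose w hw using hpow
  let θ : X.functionField →+* Y.functionField :=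
    { toFun := w
      map_one' := ψ.injective (by rw [hw, map_one, one_pow])
      map_mul' := fun a b => ψ.injective (by rw [map_mul, hw, hw, hw, mul_pow])
      map_zero' := ψ.injective (by rw [hw, map_zero, zero_pow (pow_ne_zero _ (Fact.out : p.Prime).ne_zero)])
      map_add' := fun a b => ψ.injective (by rw [map_add, hw, hw, hw, add_pow_char_pow]) }
  have hθψ : ∀ z, ψ (θ z) = z ^ p ^ r := hw
  have hθk : θ.comp (Curv2.stalkMap k X (genericPoint X)) =
      (Curv2.stalkMap k Y (genericPoint Y)).comp (iterateFrobenius k p r) := RingHom.ext fun c => ψ.injective (by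
    simp only [RingHom.comp_apply, hθψ, iterateFrobenius_def, map_pow]
    rw [← RingHom.comp_apply ψ, hψk])
  let t : Spec Y.functionField ⟶ X' := pullback.lift (Spec.map (CommRingCat.ofHom θ) ≫ X.fromSpecStalk (genericPoint X))
    (Y.fromSpecStalk (genericPoint Y) ≫ (Y ↘ S)) (by
      rw [Category.assoc, CurveBir.fromSpecStalk_over, CurveBir.fromSpecStalk_over, ← Spec.map_comp, ← Spec.map_comp,
        ← CommRingCat.ofHom_comp, ← CommRingCat.ofHom_comp, hθk])
  have htfst : t ≫ fst = Spec.map (CommRingCat.ofHom θ) ≫ X.fromSpecStalk (genericPoint X) := pullback.lift_fst _ _ _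
  have htη : t (IsLocalRing.closedPoint Y.functionField) = genericPoint X' := by
    apply fst.injective
    have h1 : fst (t (IsLocalRing.closedPoint Y.functionField)) =
        X.fromSpecStalk (genericPoint X) (Spec.map (CommRingCat.ofHom θ) (IsLocalRing.closedPoint Y.functionField)) :=
      congr($htfst (IsLocalRing.closedPoint Y.functionField))
    rw [h1, Subsingleton.elim (α := PrimeSpectrum X.functionField)
      (Spec.map (CommRingCat.ofHom θ) (IsLocalRing.closedPoint Y.functionField)) (IsLocalRing.closedPoint _)]
    refine Scheme.fromSpecStalk_closedPoint.trans ?_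
    obtain ⟨z, hz⟩ := fst.surjective (genericPoint X)
    have h2 : fst (genericPoint X') ⤳ fst z := ((genericPoint_spec X').specializes trivial).map fst.continuous
    rw [hz] at h2
    exact (h2.antisymm ((genericPoint_spec X).specializes trivial)).eq.symm
  let ι : X'.functionField →+* Y.functionField :=
    ((X'.presheaf.stalkCongr (.of_eq htη.symm)).hom ≫ Scheme.stalkClosedPointTo t).hom
  have hι : CurveBir.genHom Y X' ι = t := by
    rw [CurveBir.genHom, CommRingCat.ofHom_hom, Spec.map_comp, Category.assoc,
      TopCat.Presheaf.stalkCongr_hom, Scheme.SpecMap_stalkSpecializes_fromSpecStalk]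
    exact Scheme.Spec_stalkClosedPointTo_fromSpecStalk t
  have hιk : ι.comp (Curv2.stalkMap k X' (genericPoint X')) = Curv2.stalkMap k Y (genericPoint Y) := by
    have h1 : Spec.map (CommRingCat.ofHom (ι.comp (Curv2.stalkMap k X' (genericPoint X')))) =
        Spec.map (CommRingCat.ofHom (Curv2.stalkMap k Y (genericPoint Y))) := by
      rw [CommRingCat.ofHom_comp, Spec.map_comp, ← CurveBir.fromSpecStalk_over, ← Category.assoc,
        ← CurveBir.fromSpecStalk_over]
      exact (congrArg (· ≫ q') hι).trans (pullback.lift_snd _ _ _)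
    exact congrArg CommRingCat.Hom.hom (Spec.map_injective h1)
  have hιfst : ∀ z : X.functionField, ∃ z' : X'.functionField, ι z' = θ z := by
    have hη' : fst (genericPoint X') = genericPoint X := by
      rw [← htη]
      have h1 : fst (t (IsLocalRing.closedPoint Y.functionField)) =
          X.fromSpecStalk (genericPoint X) (Spec.map (CommRingCat.ofHom θ) (IsLocalRing.closedPoint Y.functionField)) :=
        congr($htfst (IsLocalRing.closedPoint Y.functionField))
      rw [h1, Subsingleton.elim (α := PrimeSpectrum X.functionField)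
        (Spec.map (CommRingCat.ofHom θ) (IsLocalRing.closedPoint Y.functionField)) (IsLocalRing.closedPoint _)]
      exact Scheme.fromSpecStalk_closedPoint
    let j : X.functionField →+* X'.functionField :=
      (X.presheaf.stalkSpecializes (specializes_of_eq hη') ≫ fst.stalkMap (genericPoint X')).hom
    have hj := CurveBir.genHom_eq_of_stalkMap X' X fst hη'
    have hij : ι.comp j = θ := by
      have h1 : Spec.map (CommRingCat.ofHom (ι.comp j)) ≫ X.fromSpecStalk (genericPoint X) =
          Spec.map (CommRingCat.ofHom θ) ≫ X.fromSpecStalk (genericPoint X) := by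
        rw [CommRingCat.ofHom_comp, Spec.map_comp, Category.assoc]
        refine (congrArg (Spec.map (CommRingCat.ofHom ι) ≫ ·) hj).trans ?_
        rw [← Category.assoc]
        exact (congrArg (· ≫ fst) hι).trans (pullback.lift_fst _ _ _)
      exact congrArg CommRingCat.Hom.hom (Spec.map_injective ((cancel_mono _).1 h1))
    exact fun z => ⟨j z, congrArg (fun g => g z) hij⟩
  -- the degree forces equality
  have hsurj : Function.Surjective ι := by
    letI : Algebra k X'.functionField := (Curv2.stalkMap k X' (genericPoint X')).toAlgebra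
    let F : X'.functionField →ₐ[k] X.functionField :=
      (IsScalarTower.toAlgHom k Y.functionField X.functionField).comp
        { ι with commutes' := fun c => congrArg (fun g => g c) hιk }
    have hL := FrobDeg.fieldRange_eq p htr Y.functionField r hr F.fieldRange
      (fun z ⟨a, ha⟩ => ⟨ι a, ha⟩) (fun z => by
        obtain ⟨z', hz'⟩ := hιfst z
        exact ⟨z', (congrArg ψ hz').trans (hθψ z)⟩)
    intro y
    obtain ⟨a, ha⟩ : ψ y ∈ F.fieldRange := hL ▸ ⟨y, rfl⟩
    exact ⟨a, ψ.injective ha⟩
  haveI : IsProper (X' ↘ S) := ‹IsProper q'›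
  obtain ⟨i, hi⟩ := CurveBir.exists_iso k Y X' (SmoothCompl.ringKrullDim_stalk_eq_one (Y ↘ S) hdY) hnY
    (SmoothCompl.ringKrullDim_stalk_eq_one q' hdX') hnX'
    (RingEquiv.ofBijective ι ⟨ι.injective, hsurj⟩) hιk
  exact ⟨r, i, hi⟩

end Groth.Agent.CurveFrob
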